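import Mathlib.AlgebraicGeometry.SpreadingOut
import Mathlib.AlgebraicGeometry.ValuativeCriterion

/-!
# Extending morphisms to proper schemes across valuation ring stalks
-/

universe u

open CategoryTheory CategoryTheory.Limits AlgebraicGeometry TopologicalSpace

set_option backward.isDefEq.respectTransparency false

namespace GrothLib.ValExt9

/-- A reduced scheme with finitely many components is germ-injective at points with domain stalks. -/
theorem isGermInjectiveAt_of_finite {X : Scheme.{u}} [IsReduced X]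
    (hfin : (irreducibleComponents X).Finite) (x : X)
    (h : ∀ Z₁ ∈ irreducibleComponents X, ∀ Z₂ ∈ irreducibleComponents X, x ∈ Z₁ → x ∈ Z₂ → Z₁ = Z₂) :
    X.IsGermInjectiveAt x := by
  obtain ⟨Z₀, hZ₀, hxZ₀⟩ : ∃ Z₀ ∈ irreducibleComponents X, x ∈ Z₀ :=
    ⟨irreducibleComponent x, irreducibleComponent_mem_irreducibleComponents x, mem_irreducibleComponent⟩
  have hclosed : IsClosed (⋃ Z ∈ irreducibleComponents X \ {Z₀}, Z) :=
    (hfin.subset Set.sdiff_subset).isClosed_biUnion fun Z hZ ↦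
      isClosed_of_mem_irreducibleComponents Z hZ.1
  let O : X.Opens := ⟨_, hclosed.isOpen_compl⟩
  have hxO : x ∈ O := by
    show x ∉ _
    simp only [Set.mem_iUnion]
    rintro ⟨Z, ⟨hZ, hne⟩, hxZ⟩
    exact hne (h Z hZ Z₀ hZ₀ hxZ hxZ₀)
  have hsub : (O : Set X) ⊆ Z₀ := fun y hy ↦ by
    by_contra hyZ
    refine hy (Set.mem_biUnion ⟨irreducibleComponent_mem_irreducibleComponents y, ?_⟩
      mem_irreducibleComponent)
    exact fun e ↦ hyZ (e ▸ mem_irreducibleComponent)
  have hirr : IsIrreducible (O : Set X) := by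
    refine ⟨⟨x, hxO⟩, fun u v hu hv ⟨a, hau, ha⟩ ⟨b, hbv, hb⟩ ↦ ?_⟩
    obtain ⟨c, hcZ, hc⟩ := hZ₀.1.2 ((O : Set X) ∩ u) ((O : Set X) ∩ v) (O.2.inter hu) (O.2.inter hv)
      ⟨a, hsub hau, hau, ha⟩ ⟨b, hsub hbv, hbv, hb⟩
    exact ⟨c, hc.1.1, hc.1.2, hc.2.2⟩
  have : IrreducibleSpace (O : Scheme.{u}) := isIrreducible_iff_irreducibleSpace.1 hirr
  have : IsIntegral (O : Scheme.{u}) := isIntegral_of_irreducibleSpace_of_isReduced _
  exact inferInstanceAs (X.IsGermInjectiveAt (O.ι ⟨x, hxO⟩))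

/-- A point with domain stalk lies on only one component. -/
theorem eq_of_mem_components {X : Scheme.{u}} (x : X) [IsDomain (X.presheaf.stalk x)] {Z : Set X}
    (hZ : Z ∈ irreducibleComponents X) (hxZ : x ∈ Z) :
    Z = closure {X.fromSpecStalk x (⟨⊥, Ideal.isPrime_bot⟩ : PrimeSpectrum (X.presheaf.stalk x))} := by
  have hcl := isClosed_of_mem_irreducibleComponents Z hZ
  obtain ⟨z, hz⟩ := QuasiSober.sober hZ.1 hcl
  obtain ⟨P, hP⟩ := (Scheme.range_fromSpecStalk (X := X) (x := x)).ge (hz.specializes hxZ)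
  refine le_antisymm ?_ (hZ.2 isIrreducible_singleton.closure ?_) <;>
  · rw [← hz.def, ← hP]
    exact (((PrimeSpectrum.le_iff_specializes
      (⟨⊥, Ideal.isPrime_bot⟩ : PrimeSpectrum (X.presheaf.stalk x)) P).1
        (fun a ha ↦ by rw [(Submodule.mem_bot _).1 ha]; exact zero_mem _)).map
          (X.fromSpecStalk x).continuous).closure_subset

variable {X Y S : Scheme.{u}}

/-- Morphisms to proper schemes extend near points whose local ring is a valuation ring. -/
theorem exists_extension (p : X ⟶ S) (q : Y ⟶ S) [IsProper q] (x : X) [X.IsGermInjectiveAt x]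
    [IsDomain (X.presheaf.stalk x)] [ValuationRing (X.presheaf.stalk x)] (U : X.Opens)
    (f : (U : Scheme.{u}) ⟶ Y) (hf : f ≫ q = U.ι ≫ p) (hx : x ∈ closure (U : Set X)) :
    ∃ (U' : X.Opens) (hUU' : U ≤ U'), x ∈ U' ∧
      ∃ f' : (U' : Scheme.{u}) ⟶ Y, f' ≫ q = U'.ι ≫ p ∧ X.homOfLE hUU' ≫ f' = f := by
  obtain ⟨W, hxW, hW, hinj⟩ := X.exists_germ_injective x
  let O := X.presheaf.stalk x
  have : IsDomain Γ(X, W) := hinj.isDomain (X.presheaf.germ W x hxW).hom
  let p₀ : PrimeSpectrum O := ⟨⊥, Ideal.isPrime_bot⟩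
  let η : X := X.fromSpecStalk x p₀
  have hη : η = hW.fromSpec (⟨⊥, Ideal.isPrime_bot⟩ : PrimeSpectrum Γ(X, W)) := by
    show X.fromSpecStalk x p₀ = _
    rw [← hW.fromSpecStalk_eq_fromSpecStalk hxW, IsAffineOpen.fromSpecStalk, Scheme.Hom.comp_apply]
    congr 1
    exact PrimeSpectrum.ext ((Ideal.comap_bot_of_injective (X.presheaf.germ W x hxW).hom hinj :))
  have hηmem : ∀ T : X.Opens, ((T : Set X) ∩ W).Nonempty → η ∈ T := by
    rintro T ⟨y, hyT, hyW⟩
    obtain ⟨P, rfl⟩ := hW.range_fromSpec.ge hyW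
    rw [hη]
    exact (((PrimeSpectrum.le_iff_specializes (⟨⊥, Ideal.isPrime_bot⟩ : PrimeSpectrum Γ(X, W)) P).1
      (fun a ha ↦ by rw [(Submodule.mem_bot _).1 ha]; exact zero_mem _)).map hW.fromSpec.continuous).mem_open
      T.2 hyT
  have hηU : η ∈ U := hηmem U <| by
    obtain ⟨y, hyW, hyU⟩ := mem_closure_iff.1 hx W W.2 hxW
    exact ⟨y, hyU, hyW⟩
  let K := FractionRing O
  let g : Spec (CommRingCat.of K) ⟶ X :=
    Spec.map (CommRingCat.ofHom (algebraMap O K)) ≫ X.fromSpecStalk x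
  have hgrange : ∀ t, g t = η := fun t ↦ by
    show X.fromSpecStalk x (Spec.map (CommRingCat.ofHom (algebraMap O K)) t) = _
    congr 1
    refine PrimeSpectrum.ext (?_ : Ideal.comap (algebraMap O K) t.asIdeal = ⊥)
    rw [Ideal.eq_bot_of_prime t.asIdeal]
    exact Ideal.comap_bot_of_injective _ (IsFractionRing.injective O K)
  have hgU : Set.range g ⊆ Set.range U.ι := by
    rw [Scheme.Opens.range_ι]
    rintro _ ⟨t, rfl⟩
    rw [hgrange]; exact hηU
  let k := IsOpenImmersion.lift U.ι g hgU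
  let sq : ValuativeCommSq q := ⟨O, K, k ≫ f, X.fromSpecStalk x ≫ p, ⟨by
    rw [Category.assoc, hf, IsOpenImmersion.lift_fac_assoc, Category.assoc]⟩⟩
  have hval : ValuativeCriterion q := by
    have := ‹IsProper q›
    rw [IsProper.eq_valuativeCriterion] at this
    exact this.1.1.1
  obtain ⟨⟨l⟩⟩ := hval.existence sq
  have hl₁ : Spec.map (CommRingCat.ofHom (algebraMap O K)) ≫ l.l = k ≫ f := l.fac_left
  have hl₂ : l.l ≫ q = X.fromSpecStalk x ≫ p := l.fac_right
  obtain ⟨W₁, hxW₁, g₁, hg₁, hg₁q⟩ := spread_out_of_isGermInjective' (sX := p) (sY := q) l.l hl₂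
  let V := W₁ ⊓ W
  have hxV : x ∈ V := ⟨hxW₁, hxW⟩
  let fV : (V : Scheme.{u}) ⟶ Y := X.homOfLE inf_le_left ≫ g₁
  have hfVq : fV ≫ q = V.ι ≫ p := by rw [Category.assoc, hg₁q, Scheme.homOfLE_ι_assoc]
  have hgV : Set.range g ⊆ Set.range (V ⊓ U).ι := by
    rw [Scheme.Opens.range_ι]
    rintro _ ⟨t, rfl⟩
    rw [hgrange]
    exact ⟨hηmem V ⟨x, hxV, hxW⟩, hηU⟩
  let kV := IsOpenImmersion.lift (V ⊓ U).ι g hgV
  have hagree : X.homOfLE (inf_le_left : V ⊓ U ≤ V) ≫ fV =
      X.homOfLE (inf_le_right : V ⊓ U ≤ U) ≫ f := by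
    have : IsAffine (W : Scheme.{u}) := hW
    have : Nonempty W := ⟨⟨x, hxW⟩⟩
    have : IsDomain Γ(W, ⊤) := W.topIso.commRingCatIsoToRingEquiv.injective.isDomain W.topIso.commRingCatIsoToRingEquiv.toRingHom
    have : IsIntegral (W : Scheme.{u}) := isIntegral_of_isAffine_of_isDomain _
    have : IsReduced ((V ⊓ U : X.Opens) : Scheme.{u}) :=
      isReduced_of_isOpenImmersion (X.homOfLE (inf_le_left.trans inf_le_right : V ⊓ U ≤ W))
    have : IsDominant kV := ⟨fun y ↦ by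
      have hy : kV (IsLocalRing.closedPoint K) ⤳ y := by
        refine (V ⊓ U).ι.isOpenEmbedding.isInducing.specializes_iff.1 ?_
        rw [← Scheme.Hom.comp_apply, IsOpenImmersion.lift_fac, hgrange]
        obtain ⟨P, hP⟩ := hW.range_fromSpec.ge y.2.1.2
        show η ⤳ y.1
        rw [← hP, hη]
        exact ((PrimeSpectrum.le_iff_specializes (⟨⊥, Ideal.isPrime_bot⟩ : PrimeSpectrum Γ(X, W)) P).1
          (fun a ha ↦ by rw [(Submodule.mem_bot _).1 ha]; exact zero_mem _)).map hW.fromSpec.continuous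
      have hsub : ({kV (IsLocalRing.closedPoint K)} : Set _) ⊆ Set.range kV :=
        Set.singleton_subset_iff.2 (Set.mem_range_self _)
      exact closure_mono hsub (specializes_iff_mem_closure.1 hy)⟩
    refine ext_of_isDominant_of_isSeparated q ?_ kV ?_
    · refine (Category.assoc _ _ _).trans (Eq.trans ?_ (Category.assoc _ _ _).symm)
      rw [hfVq, hf, Scheme.homOfLE_ι_assoc, Scheme.homOfLE_ι_assoc]
    · have e₁ : kV ≫ X.homOfLE (inf_le_right : V ⊓ U ≤ U) = k := by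
        rw [← cancel_mono U.ι, Category.assoc, Scheme.homOfLE_ι, IsOpenImmersion.lift_fac,
          IsOpenImmersion.lift_fac]
      have e₂ : kV ≫ X.homOfLE (inf_le_left.trans inf_le_left : V ⊓ U ≤ W₁) =
          Spec.map (CommRingCat.ofHom (algebraMap O K)) ≫ W₁.fromSpecStalkOfMem x hxW₁ := by
        rw [← cancel_mono W₁.ι, Category.assoc, Scheme.homOfLE_ι, IsOpenImmersion.lift_fac,
          Category.assoc, Scheme.Opens.fromSpecStalkOfMem_ι]
      rw [← Category.assoc, ← Category.assoc, ← Category.assoc, e₁, ← hl₁, hg₁, ← Category.assoc,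
        ← e₂]
      simp only [Category.assoc, Scheme.homOfLE_homOfLE_assoc]
  -- glue
  let U' := U ⊔ V
  let 𝒰 : (U' : Scheme.{u}).OpenCover := Scheme.openCoverOfIsOpenCover _
    (fun b : ULift.{u} Bool ↦ U'.ι ⁻¹ᵁ (if b.down then U else V)) (by
      refine eq_top_iff.2 fun y _ ↦ ?_
      rcases y.2 with hy | hy
      · exact Opens.mem_iSup.2 ⟨⟨true⟩, hy⟩
      · exact Opens.mem_iSup.2 ⟨⟨false⟩, hy⟩)
  let into (T : X.Opens) (hT : T ≤ U') : ((U'.ι ⁻¹ᵁ T : (U' : Scheme.{u}).Opens) : Scheme.{u}) ⟶ T :=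
    IsOpenImmersion.lift T.ι ((U'.ι ⁻¹ᵁ T).ι ≫ U'.ι) (by
      rw [Scheme.Opens.range_ι]
      rintro _ ⟨y, rfl⟩
      exact y.2)
  let m : ∀ b : ULift.{u} Bool, 𝒰.X b ⟶ Y
    | ⟨true⟩ => into U le_sup_left ≫ f
    | ⟨false⟩ => into V le_sup_right ≫ fV
  have hcross : ∀ {T : Scheme.{u}} (a : T ⟶ U) (b : T ⟶ V), a ≫ U.ι = b ≫ V.ι → a ≫ f = b ≫ fV := by
    intro T a b hab
    have hr : Set.range (a ≫ U.ι) ⊆ Set.range (V ⊓ U).ι := by
      rw [Scheme.Opens.range_ι]
      rintro _ ⟨t, rfl⟩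
      exact ⟨by rw [hab]; exact (b t).2, (a t).2⟩
    let c := IsOpenImmersion.lift (V ⊓ U).ι (a ≫ U.ι) hr
    have ea : a = c ≫ X.homOfLE inf_le_right := by
      rw [← cancel_mono U.ι, Category.assoc, Scheme.homOfLE_ι, IsOpenImmersion.lift_fac]
    have eb : b = c ≫ X.homOfLE inf_le_left := by
      rw [← cancel_mono V.ι, Category.assoc, Scheme.homOfLE_ι, IsOpenImmersion.lift_fac, hab]
    rw [ea, eb, Category.assoc, Category.assoc, hagree]
  have hm : ∀ b b', pullback.fst (𝒰.f b) (𝒰.f b') ≫ m b = pullback.snd _ _ ≫ m b' := by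
    rintro ⟨⟨⟩⟩ ⟨⟨⟩⟩
    · show _ ≫ into V le_sup_right ≫ fV = _ ≫ into V le_sup_right ≫ fV
      refine ((Category.assoc _ _ _).symm.trans
        ((congrArg (· ≫ fV) ?_).trans (Category.assoc _ _ _)))
      rw [← cancel_mono V.ι]
      simp only [Category.assoc, into, IsOpenImmersion.lift_fac]
      exact pullback.condition_assoc _
    · refine ((Category.assoc _ _ _).symm.trans ((hcross _ _ ?_).symm.trans (Category.assoc _ _ _)))
      simp only [Category.assoc, into, IsOpenImmersion.lift_fac]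
      exact pullback.condition_assoc _ |>.symm
    · refine ((Category.assoc _ _ _).symm.trans ((hcross _ _ ?_).trans (Category.assoc _ _ _)))
      simp only [Category.assoc, into, IsOpenImmersion.lift_fac]
      exact pullback.condition_assoc _
    · show _ ≫ into U le_sup_left ≫ f = _ ≫ into U le_sup_left ≫ f
      refine ((Category.assoc _ _ _).symm.trans
        ((congrArg (· ≫ f) ?_).trans (Category.assoc _ _ _)))
      rw [← cancel_mono U.ι]
      simp only [Category.assoc, into, IsOpenImmersion.lift_fac]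
      exact pullback.condition_assoc _
  refine ⟨U', le_sup_left, Or.inr hxV, 𝒰.glueMorphisms m hm, 𝒰.hom_ext _ _ ?_, ?_⟩
  · rintro ⟨⟨⟩⟩
    · rw [𝒰.ι_glueMorphisms_assoc]
      show (into V le_sup_right ≫ fV) ≫ q = _
      rw [Category.assoc, hfVq, IsOpenImmersion.lift_fac_assoc]
      exact Category.assoc _ _ _
    · rw [𝒰.ι_glueMorphisms_assoc]
      show (into U le_sup_left ≫ f) ≫ q = _
      rw [Category.assoc, hf, IsOpenImmersion.lift_fac_assoc]
      exact Category.assoc _ _ _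
  · let t : (U : Scheme.{u}) ⟶ 𝒰.X ⟨true⟩ :=
      IsOpenImmersion.lift (U'.ι ⁻¹ᵁ U).ι (X.homOfLE le_sup_left) (Set.range_subset_iff.2 fun y ↦
        ⟨⟨X.homOfLE le_sup_left y, by
          show U'.ι (X.homOfLE _ y) ∈ U
          rw [← Scheme.Hom.comp_apply, Scheme.homOfLE_ι]
          exact y.2⟩, rfl⟩)
    have ht : t ≫ 𝒰.f ⟨true⟩ = X.homOfLE (le_sup_left : U ≤ U') := IsOpenImmersion.lift_fac _ _ _
    rw [← ht, Category.assoc, 𝒰.ι_glueMorphisms]
    show t ≫ into U le_sup_left ≫ f = f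
    have : t ≫ into U le_sup_left = 𝟙 _ := by
      rw [← cancel_mono U.ι, Category.assoc, IsOpenImmersion.lift_fac, Category.id_comp,
        IsOpenImmersion.lift_fac_assoc, Scheme.homOfLE_ι]
    rw [← Category.assoc, this, Category.id_comp]

end GrothLib.ValExt9
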